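import Groth.Prelude.Def_W4c6eohyperellchar2Gc
import Mathlib.LinearAlgebra.Quotient.Basic
import Mathlib.LinearAlgebra.LinearIndependent.Basic
import Mathlib.LinearAlgebra.LinearIndependent.Lemmas
import Mathlib.Algebra.Module.BigOperators
import Mathlib.Tactic

/-!
# The operators `F`, `V` on the basis of `GcMod`
-/

set_option autoImplicit false

open W4c6eohyperellchar2

namespace Groth.Agent.Gc70

variable (c : ℕ) (k : Type*) [Field k]

theorem coefX_X {n m : ℕ} (hn : 1 ≤ n ∧ n ≤ c) :
    coefX (X c k n) m = if m = n then 1 else 0 := by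
  unfold coefX X
  by_cases h : 1 ≤ m ∧ m ≤ c
  · rw [dif_pos h]
    simp only [show m - 1 + 1 = m by omega]
  · rw [dif_neg h, if_neg (by rintro rfl; exact h hn)]

theorem coefY_X (n m : ℕ) : coefY (X c k n) m = 0 := by
  unfold coefY X; split <;> rfl

theorem coefY_Y {n m : ℕ} (hn : 1 ≤ n ∧ n ≤ c) :
    coefY (Y c k n) m = if m = n then 1 else 0 := by
  unfold coefY Y
  by_cases h : 1 ≤ m ∧ m ≤ c
  · rw [dif_pos h]
    simp only [show m - 1 + 1 = m by omega]
  · rw [dif_neg h, if_neg (by rintro rfl; exact h hn)]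

theorem coefX_Y (n m : ℕ) : coefX (Y c k n) m = 0 := by
  unfold coefX Y; split <;> rfl

theorem F_X_even {m : ℕ} (h1 : 1 ≤ m) (h2 : 2 * m ≤ c) : F c k (X c k (2 * m)) = X c k m := by
  refine Prod.ext (funext fun i => ?_) (funext fun i => ?_)
  · simp only [F, coefX_X c k (n := 2 * m) ⟨by omega, h2⟩]
    show _ = if i.val + 1 = m then (1 : k) else 0
    by_cases h : i.val + 1 = m <;> simp [h] <;> omega
  · simp only [F, coefX_X c k (n := 2 * m) ⟨by omega, h2⟩]
    rw [if_neg (by omega)]
    simp [X]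

theorem F_X_odd {m : ℕ} (h2 : 2 * m + 1 ≤ c) : F c k (X c k (2 * m + 1)) = Y c k (c - m) := by
  refine Prod.ext (funext fun i => ?_) (funext fun i => ?_)
  · simp only [F, coefX_X c k (n := 2 * m + 1) ⟨by omega, h2⟩]
    rw [if_neg (by omega)]
    simp [Y]
  · simp only [F, coefX_X c k (n := 2 * m + 1) ⟨by omega, h2⟩]
    show _ = if i.val + 1 = c - m then (1 : k) else 0
    have := i.2
    by_cases h : i.val + 1 = c - m
    · rw [if_pos h, if_pos (by omega)]; simp
    · rw [if_neg h, if_neg (by omega)]; simp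

variable [CharP k 2] [PerfectRing k 2]

theorem V_X {j : ℕ} (h1 : c < 2 * j) (h2 : j ≤ c) : V c k (X c k j) = Y c k (2 * c - 2 * j + 1) := by
  refine Prod.ext rfl (funext fun i => ?_)
  show _ = if i.val + 1 = 2 * c - 2 * j + 1 then (1 : k) else 0
  simp only [V, coefY_X, coefX_X c k (n := j) ⟨by omega, h2⟩]
  have := i.2
  by_cases h : (i.val + 1) % 2 = 0
  · rw [if_pos h, if_neg (by omega)]; simp
  · rw [if_neg h]
    by_cases h' : i.val + 1 = 2 * c - 2 * j + 1
    · rw [if_pos h', if_pos (by omega)]; simp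
    · rw [if_neg h', if_neg (by omega)]; simp

theorem V_Y {m : ℕ} (h1 : 1 ≤ m) (h2 : 2 * m ≤ c) : V c k (Y c k m) = Y c k (2 * m) := by
  refine Prod.ext rfl (funext fun i => ?_)
  show _ = if i.val + 1 = 2 * m then (1 : k) else 0
  simp only [V, coefX_Y, coefY_Y c k (n := m) ⟨h1, by omega⟩]
  by_cases h : (i.val + 1) % 2 = 0
  · rw [if_pos h]
    by_cases h' : i.val + 1 = 2 * m
    · rw [if_pos h', if_pos (by omega)]; simp
    · rw [if_neg h', if_neg (by omega)]; simp
  · rw [if_neg h, if_neg (by omega)]; simp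

omit [CharP k 2] [PerfectRing k 2] in
theorem mem_of_basis (N : Submodule k (GcMod c k)) (hX : ∀ n, 1 ≤ n → n ≤ c → X c k n ∈ N)
    (hY : ∀ n, 1 ≤ n → n ≤ c → Y c k n ∈ N) (v : GcMod c k) : v ∈ N := by
  have e : v = (∑ i : Fin c, v.1 i • X c k (i.val + 1)) + ∑ i : Fin c, v.2 i • Y c k (i.val + 1) := by
    refine Prod.ext (funext fun i => ?_) (funext fun i => ?_)
    · simp [X, Y, Prod.fst_sum, Finset.sum_apply, Fin.val_inj]
    · simp [X, Y, Prod.snd_sum, Finset.sum_apply, Fin.val_inj]
  rw [e]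
  exact add_mem (sum_mem fun i _ => N.smul_mem _ (hX _ (by omega) i.2))
    (sum_mem fun i _ => N.smul_mem _ (hY _ (by omega) i.2))

theorem eq_top_of_stable (N : Submodule k (GcMod c k)) (hF : ∀ v ∈ N, F c k v ∈ N)
    (hV : ∀ v ∈ N, V c k v ∈ N) (hX : ∀ j : ℕ, c < 2 * j → j ≤ c → X c k j ∈ N) : N = ⊤ := by
  have hXn : ∀ n, 1 ≤ n → n ≤ c → X c k n ∈ N := by
    intro n
    induction h : c - n using Nat.strong_induction_on generalizing n with
    | _ d ih =>
      intro h1 h2
      by_cases hc : c < 2 * n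
      · exact hX n hc h2
      · rw [← F_X_even c k h1 (by omega)]
        exact hF _ (ih (c - 2 * n) (by omega) (2 * n) rfl (by omega) (by omega))
  have hYn : ∀ n, 1 ≤ n → n ≤ c → Y c k n ∈ N := by
    intro n
    induction n using Nat.strong_induction_on with
    | _ n ih =>
      intro h1 h2
      rcases Nat.even_or_odd' n with ⟨m, rfl | rfl⟩
      · rw [← V_Y c k (by omega) h2]
        exact hV _ (ih m (by omega) (by omega) (by omega))
      · have e := V_X c k (j := c - m) (by omega) (Nat.sub_le _ _)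
        rw [show 2 * c - 2 * (c - m) + 1 = 2 * m + 1 by omega] at e
        rw [← e]
        exact hV _ (hXn _ (by omega) (Nat.sub_le _ _))
  exact top_le_iff.mp fun v _ => mem_of_basis c k N hXn hYn v

/-- The span of the images of `F` and `V`. -/
noncomputable abbrev W : Submodule k (GcMod c k) :=
  Submodule.span k (Set.range (F c k) ∪ Set.range (V c k))

theorem coef_eq_zero_of_mem_W {v : GcMod c k} (hv : v ∈ W c k) (i : Fin c) (hi : c < 2 * (i.val + 1)) :
    v.1 i = 0 := by
  induction hv using Submodule.span_induction with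
  | mem w hw =>
    rcases hw with ⟨u, rfl⟩ | ⟨u, rfl⟩
    · show coefX u (2 * (i.val + 1)) ^ 2 = 0
      rw [coefX, dif_neg (by omega)]
      simp
    · rfl
  | zero => rfl
  | add x y _ _ hx hy => simp [hx, hy]
  | smul a x _ hx => simp [hx]

theorem quotient_basis :
    LinearIndependent k (fun j : {j : ℕ // c < 2 * j ∧ j ≤ c} => Submodule.mkQ (W c k) (X c k j.1)) ∧
      Submodule.span k (Set.range (fun j : {j : ℕ // c < 2 * j ∧ j ≤ c} =>
        Submodule.mkQ (W c k) (X c k j.1))) = ⊤ := by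
  classical
  constructor
  · rw [linearIndependent_iff']
    intro s g hg j hj
    rw [← map_sum (Submodule.mkQ (W c k)) (fun i => g i • X c k i.1) s |>.trans
      (Finset.sum_congr rfl fun i _ => map_smul _ _ _), Submodule.mkQ_apply, Submodule.Quotient.mk_eq_zero] at hg
    have h := coef_eq_zero_of_mem_W c k hg ⟨j.1 - 1, by have := j.2; omega⟩ (by have := j.2; simp; omega)
    simp only [Prod.fst_sum, Finset.sum_apply, Prod.smul_fst, Pi.smul_apply, X, smul_eq_mul,
      mul_ite, mul_one, mul_zero] at h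
    rw [Finset.sum_eq_single j (fun b _ hb => if_neg (fun e => hb (Subtype.ext (by have := j.2; omega))))
      (fun h' => absurd hj h'), if_pos (by have := j.2; omega)] at h
    exact h
  · refine top_le_iff.mp fun q _ => ?_
    obtain ⟨v, rfl⟩ := Submodule.mkQ_surjective (W c k) q
    set S := Submodule.span k (Set.range (fun j : {j : ℕ // c < 2 * j ∧ j ≤ c} =>
        Submodule.mkQ (W c k) (X c k j.1)))
    have hW : ∀ w ∈ W c k, w ∈ S.comap (W c k).mkQ := fun w hw => by
      simp [Submodule.mem_comap, (Submodule.Quotient.mk_eq_zero _).mpr hw]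
    refine (eq_top_of_stable c k (S.comap (W c k).mkQ) (fun w _ => hW _ ?_) (fun w _ => hW _ ?_)
      (fun j h1 h2 => Submodule.subset_span ⟨⟨j, h1, h2⟩, rfl⟩)).ge (Submodule.mem_top : v ∈ ⊤)
    · exact Submodule.subset_span (Or.inl ⟨w, rfl⟩)
    · exact Submodule.subset_span (Or.inr ⟨w, rfl⟩)

theorem relation (j e l : ℕ) (hj : j = 2 ^ e * l) (hl : Odd l) (hjc : j ≤ c) (hcj : c < 2 * j)
    (j' n : ℕ) (hj'c : j' ≤ c) (hcj' : c < 2 * j') (hn : 2 ^ n * (2 * c - 2 * j' + 1) = c - (l - 1) / 2) :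
    (F c k)^[e + 1] (X c k j) + (V c k)^[n + 1] (X c k j') = 0 := by
  obtain ⟨m, rfl⟩ := hl
  have hF : ∀ e, 2 ^ e * (2 * m + 1) ≤ c → (F c k)^[e] (X c k (2 ^ e * (2 * m + 1))) = X c k (2 * m + 1) := by
    intro e
    induction e with
    | zero => simp
    | succ e ih =>
      intro h
      rw [pow_succ', mul_assoc] at h ⊢
      have hpos : 0 < 2 ^ e * (2 * m + 1) := by positivity
      rw [Function.iterate_succ_apply, F_X_even c k hpos h]
      exact ih (by omega)
  have hV : ∀ n a, 1 ≤ a → 2 ^ n * a ≤ c → (V c k)^[n] (Y c k a) = Y c k (2 ^ n * a) := by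
    intro n
    induction n with
    | zero => simp
    | succ n ih =>
      intro a h1 h2
      rw [pow_succ, mul_assoc] at h2 ⊢
      have : 2 * a ≤ 2 ^ n * (2 * a) := Nat.le_mul_of_pos_left _ (by positivity)
      rw [Function.iterate_succ_apply, V_Y c k h1 (by omega), ih (2 * a) (by omega) h2]
  have hmle : 2 * m + 1 ≤ c := by
    have : 2 * m + 1 ≤ 2 ^ e * (2 * m + 1) := Nat.le_mul_of_pos_left _ (by positivity)
    omega
  rw [hj, Function.iterate_succ_apply', hF e (hj ▸ hjc), F_X_odd c k hmle, Function.iterate_succ_apply,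
    V_X c k hcj' hj'c, hV n _ (by omega) (by omega), hn, show (2 * m + 1 - 1) / 2 = m by omega]
  refine Prod.ext (funext fun i => ?_) (funext fun i => ?_) <;> exact CharTwo.add_self_eq_zero _

end Groth.Agent.Gc70
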