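import Mathlib.RingTheory.Kaehler.Basic

/-!
# Swap invariants of the fourth power of the diagonal ideal
-/

set_option autoImplicit false

universe u

open TensorProduct
open scoped Pointwise

namespace Groth.Agent.Gc70

variable (k R : Type u) [Field k] [NeZero (2 : k)] [CommRing R] [Algebra k R]

/-- The swap invariant subalgebra. -/
abbrev Sw : Subalgebra k (R ⊗[k] R) :=
  AlgHom.equalizer ((Algebra.TensorProduct.comm k R R : R ⊗[k] R ≃ₐ[k] R ⊗[k] R) : R ⊗[k] R →ₐ[k] R ⊗[k] R)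
    (AlgHom.id k (R ⊗[k] R))

/-- The swap. -/
abbrev σ : R ⊗[k] R →ₐ[k] R ⊗[k] R :=
  ((Algebra.TensorProduct.comm k R R : R ⊗[k] R ≃ₐ[k] R ⊗[k] R) : R ⊗[k] R →ₐ[k] R ⊗[k] R)

theorem σσ (x : R ⊗[k] R) : σ k R (σ k R x) = x := by
  induction x using TensorProduct.induction_on with
  | zero => simp
  | tmul a b => simp [σ]
  | add a b ha hb => rw [map_add, map_add, ha, hb]

theorem σ_delta (r : R) : σ k R (1 ⊗ₜ r - r ⊗ₜ 1) = -(1 ⊗ₜ r - r ⊗ₜ 1) := by
  simp [σ]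

theorem mem_Sw {x : R ⊗[k] R} : x ∈ Sw k R ↔ σ k R x = x := Iff.rfl

/-- The generators of the diagonal ideal. -/
def D : Set (R ⊗[k] R) := Set.range fun r : R => (1 : R) ⊗ₜ[k] r - r ⊗ₜ[k] (1 : R)

theorem ideal_eq : KaehlerDifferential.ideal k R = Ideal.span (D k R) :=
  (KaehlerDifferential.span_range_eq_ideal k R).symm

/-- The invariants of `I ^ 2`, as an ideal of the invariants. -/
noncomputable abbrev J : Ideal (Sw k R) := Ideal.comap (Sw k R).val (KaehlerDifferential.ideal k R ^ 2)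

theorem pow_two_eq : KaehlerDifferential.ideal k R ^ 2 = Ideal.span (D k R * D k R) := by
  rw [ideal_eq, pow_two, Ideal.span_mul_span']

theorem pow_four_eq :
    KaehlerDifferential.ideal k R ^ 4 = Ideal.span (D k R * D k R * (D k R * D k R)) := by
  rw [show (4 : ℕ) = 2 + 2 from rfl, pow_add, pow_two_eq, Ideal.span_mul_span']

theorem DD_inv {w : R ⊗[k] R} (hw : w ∈ D k R * D k R) :
    w ∈ Sw k R ∧ w ∈ KaehlerDifferential.ideal k R ^ 2 := by
  obtain ⟨_, ⟨r, rfl⟩, _, ⟨s, rfl⟩, rfl⟩ := hw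
  refine ⟨?_, (pow_two_eq k R).symm ▸ Ideal.subset_span (Set.mul_mem_mul ⟨r, rfl⟩ ⟨s, rfl⟩)⟩
  rw [mem_Sw, map_mul, σ_delta, σ_delta, neg_mul_neg]

theorem sym_mem {x : R ⊗[k] R} (hx : x ∈ KaehlerDifferential.ideal k R ^ 4) (e : R ⊗[k] R) :
    ∃ y ∈ J k R ^ 2, (y : R ⊗[k] R) = e * x + σ k R (e * x) := by
  rw [pow_four_eq] at hx
  induction hx using Submodule.span_induction generalizing e with
  | mem w hw =>
    obtain ⟨u, hu, v, hv, rfl⟩ := hw
    obtain ⟨hu1, hu2⟩ := DD_inv k R hu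
    obtain ⟨hv1, hv2⟩ := DD_inv k R hv
    have hs : (e + σ k R e) ∈ Sw k R := by rw [mem_Sw, map_add, σσ, add_comm]
    refine ⟨(⟨e + σ k R e, hs⟩ * ⟨u, hu1⟩) * ⟨v, hv1⟩, ?_, ?_⟩
    · rw [pow_two]
      exact Ideal.mul_mem_mul (Ideal.mul_mem_left _ _ hu2) hv2
    · rw [map_mul, map_mul, (mem_Sw k R).mp hu1, (mem_Sw k R).mp hv1]
      show (e + σ k R e) * u * v = _
      ring
  | zero => exact ⟨0, zero_mem _, by simp⟩
  | add a b _ _ ha hb =>
    obtain ⟨y, hy, ey⟩ := ha e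
    obtain ⟨z, hz, ez⟩ := hb e
    exact ⟨y + z, add_mem hy hz, by rw [Subalgebra.coe_add, ey, ez, mul_add, map_add]; abel⟩
  | smul c a _ ha =>
    obtain ⟨y, hy, ey⟩ := ha (e * c)
    exact ⟨y, hy, by rw [ey, smul_eq_mul, mul_assoc]⟩

theorem comap_pow_four :
    Ideal.comap (Sw k R).val (KaehlerDifferential.ideal k R ^ 4) = J k R ^ 2 := by
  refine le_antisymm (fun x hx => ?_) ?_
  · obtain ⟨y, hy, ey⟩ := sym_mem k R hx 1
    have e2 : (y : R ⊗[k] R) = ((2 : k) • x : Sw k R) := by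
      rw [ey, one_mul, Subalgebra.coe_smul, two_smul]
      exact congrArg ((x : R ⊗[k] R) + ·) x.2
    have e3 : x = algebraMap k (Sw k R) (2 : k)⁻¹ * y := by
      rw [Subtype.ext e2, ← Algebra.smul_def, smul_smul, inv_mul_cancel₀ (NeZero.ne _), one_smul]
    rw [e3]
    exact Ideal.mul_mem_left _ _ hy
  · rw [pow_two, Ideal.mul_le]
    intro a ha b hb
    rw [Ideal.mem_comap, map_mul, show (4 : ℕ) = 2 + 2 from rfl, pow_add]
    exact Ideal.mul_mem_mul ha hb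

end Groth.Agent.Gc70
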